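import Groth.Agent.FPGrp.Stage
import Groth.Prelude.Def_Red

/-!
# Group schemes of finite presentation over a limit come from a stage
-/

set_option autoImplicit false
set_option backward.isDefEq.respectTransparency false
set_option backward.isDefEq.respectTransparency.types false
set_option linter.style.haveILetI false
set_option linter.unusedSectionVars false

universe u

open CategoryTheory CategoryTheory.Limits MonoidalCategory CartesianMonoidalCategory MonObj AlgebraicGeometry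

noncomputable section

namespace Groth.Agent.FPGrp

/-- The group axioms, written on points. -/
structure LiftAxioms {C : Type*} [Category C] [CartesianMonoidalCategory C] {X : C} (m : X ⊗ X ⟶ X)
    (e : 𝟙_ C ⟶ X) (n : X ⟶ X) : Prop where
  one_mul : ∀ {Z : C} (a : Z ⟶ X), lift (toUnit Z ≫ e) a ≫ m = a
  mul_one : ∀ {Z : C} (a : Z ⟶ X), lift a (toUnit Z ≫ e) ≫ m = a
  assoc : ∀ {Z : C} (a b c : Z ⟶ X), lift (lift a b ≫ m) c ≫ m = lift a (lift b c ≫ m) ≫ m
  left_inv : lift n (𝟙 X) ≫ m = toUnit X ≫ e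
  right_inv : lift (𝟙 X) n ≫ m = toUnit X ≫ e

/-- A group object from the axioms written on points. -/
abbrev grpObjOfLift {C : Type*} [Category C] [CartesianMonoidalCategory C] {X : C} {m : X ⊗ X ⟶ X}
    {e : 𝟙_ C ⟶ X} {n : X ⟶ X} (h : LiftAxioms m e n) : GrpObj X where
  one := e
  mul := m
  one_mul := by
    have w : e ▷ X = lift (toUnit _ ≫ e) (snd (𝟙_ C) X) := by
      apply CartesianMonoidalCategory.hom_ext
      · rw [lift_fst, whiskerRight_fst, toUnit_unique (toUnit (𝟙_ C ⊗ X)) (fst _ _)]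
      · rw [lift_snd, whiskerRight_snd]
    rw [w, h.one_mul]
    exact (leftUnitor_hom X).symm
  mul_one := by
    have w : X ◁ e = lift (fst X (𝟙_ C)) (toUnit _ ≫ e) := by
      apply CartesianMonoidalCategory.hom_ext
      · rw [lift_fst, whiskerLeft_fst]
      · rw [lift_snd, whiskerLeft_snd, toUnit_unique (toUnit (X ⊗ 𝟙_ C)) (snd _ _)]
    rw [w, h.mul_one]
    exact (rightUnitor_hom X).symm
  mul_assoc := by
    have w₁ : m ▷ X = lift (lift (fst (X ⊗ X) X ≫ fst X X) (fst _ _ ≫ snd X X) ≫ m) (snd _ _) := by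
      apply CartesianMonoidalCategory.hom_ext
      · rw [lift_fst, whiskerRight_fst]
        congr 1
        apply CartesianMonoidalCategory.hom_ext <;> simp
      · rw [lift_snd, whiskerRight_snd]
    have w₂ : (α_ X X X).hom ≫ X ◁ m =
        lift (fst (X ⊗ X) X ≫ fst X X) (lift (fst _ _ ≫ snd X X) (snd _ _) ≫ m) := by
      apply CartesianMonoidalCategory.hom_ext
      · rw [lift_fst, Category.assoc, whiskerLeft_fst, associator_hom_fst]
      · rw [lift_snd, Category.assoc, whiskerLeft_snd, ← Category.assoc]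
        congr 1
        apply CartesianMonoidalCategory.hom_ext <;> simp
    rw [w₁, h.assoc, ← w₂, Category.assoc]
  inv := n
  left_inv := h.left_inv
  right_inv := h.right_inv

section Functor

variable {C E : Type*} [Category C] [CartesianMonoidalCategory C] [Category E] [CartesianMonoidalCategory E]
  (F : C ⥤ E) [F.Monoidal]

/-- Images of products under a monoidal functor. -/
theorem map_lift_comp {X Z : C} (m : X ⊗ X ⟶ X) (a b : Z ⟶ X) :
    F.map (lift a b ≫ m) =
      lift (F.map a) (F.map b) ≫ Functor.LaxMonoidal.μ F X X ≫ F.map m := by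
  rw [Functor.map_comp, ← Functor.Monoidal.lift_μ, Category.assoc]

/-- Images of the unit point under a monoidal functor. -/
theorem map_toUnit_comp {X Z : C} (e : 𝟙_ C ⟶ X) :
    F.map (toUnit Z ≫ e) = toUnit (F.obj Z) ≫ Functor.LaxMonoidal.ε F ≫ F.map e := by
  rw [Functor.map_comp, ← Functor.Monoidal.toUnit_ε, Category.assoc]

/-- The group axioms for an image follow from their images at the universal points. -/
theorem liftAxioms_map {X : C} (m : X ⊗ X ⟶ X) (e : 𝟙_ C ⟶ X) (n : X ⟶ X)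
    (h₁ : F.map (lift (toUnit X ≫ e) (𝟙 X) ≫ m) = F.map (𝟙 X))
    (h₂ : F.map (lift (𝟙 X) (toUnit X ≫ e) ≫ m) = F.map (𝟙 X))
    (h₃ : F.map (lift (lift (fst (X ⊗ X) X ≫ fst X X) (fst _ _ ≫ snd X X) ≫ m) (snd _ _) ≫ m) =
      F.map (lift (fst (X ⊗ X) X ≫ fst X X) (lift (fst _ _ ≫ snd X X) (snd _ _) ≫ m) ≫ m))
    (h₄ : F.map (lift n (𝟙 X) ≫ m) = F.map (toUnit X ≫ e))
    (h₅ : F.map (lift (𝟙 X) n ≫ m) = F.map (toUnit X ≫ e)) :
    LiftAxioms (Functor.LaxMonoidal.μ F X X ≫ F.map m) (Functor.LaxMonoidal.ε F ≫ F.map e) (F.map n) := by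
  rw [map_lift_comp, map_toUnit_comp, F.map_id] at h₁ h₂
  rw [map_lift_comp, map_lift_comp, map_lift_comp, map_lift_comp] at h₃
  rw [map_lift_comp, map_toUnit_comp, F.map_id] at h₄ h₅
  refine ⟨fun {Z} a => ?_, fun {Z} a => ?_, fun {Z} a b c => ?_, h₄, h₅⟩
  · conv_rhs => rw [← Category.comp_id a, ← h₁]
    rw [comp_lift_assoc, Category.comp_id, comp_toUnit_assoc]
  · conv_rhs => rw [← Category.comp_id a, ← h₂]
    rw [comp_lift_assoc, Category.comp_id, comp_toUnit_assoc]
  · have e₁ := congrArg (fun w => (lift (lift a b ≫ Functor.LaxMonoidal.μ F X X) c ≫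
      Functor.LaxMonoidal.μ F (X ⊗ X) X) ≫ w) h₃
    simp only [comp_lift_assoc, comp_lift, Category.assoc, Functor.map_comp,
      Functor.Monoidal.μ_fst_assoc, Functor.Monoidal.μ_snd_assoc, Functor.Monoidal.μ_fst, Functor.Monoidal.μ_snd,
      lift_fst_assoc, lift_snd_assoc, lift_fst, lift_snd] at e₁
    exact e₁

/-- Transfer of multiplicativity along a functor. -/
theorem map_mul_eq {X Y : C} [GrpObj X] [GrpObj Y] (v : X ⟶ Y)
    (h : letI : GrpObj (F.obj X) := Functor.grpObjObj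
      letI : GrpObj (F.obj Y) := Functor.grpObjObj
      IsMonHom (F.map v)) :
    F.map (μ[X] ≫ v) = F.map ((v ⊗ₘ v) ≫ μ[Y]) ∧ F.map (η[X] ≫ v) = F.map η[Y] := by
  letI : GrpObj (F.obj X) := Functor.grpObjObj
  letI : GrpObj (F.obj Y) := Functor.grpObjObj
  constructor
  · have h' := h.mul_hom
    simp only [Functor.obj.μ_def, Category.assoc] at h'
    rw [← cancel_epi (Functor.LaxMonoidal.μ F X X), Functor.map_comp, h', Functor.map_comp,
      Functor.LaxMonoidal.μ_natural_assoc]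
  · have h' := h.one_hom
    simp only [Functor.obj.η_def, Category.assoc] at h'
    rw [← cancel_epi (Functor.LaxMonoidal.ε F), Functor.map_comp, h']

/-- Multiplicativity of an image. -/
theorem isMonHom_map_of_eq {X Y : C} [GrpObj X] [GrpObj Y] (v : X ⟶ Y)
    (h₁ : F.map (μ[X] ≫ v) = F.map ((v ⊗ₘ v) ≫ μ[Y])) (h₂ : F.map (η[X] ≫ v) = F.map η[Y]) :
    letI : GrpObj (F.obj X) := Functor.grpObjObj
    letI : GrpObj (F.obj Y) := Functor.grpObjObj
    IsMonHom (F.map v) := by
  letI : GrpObj (F.obj X) := Functor.grpObjObj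
  letI : GrpObj (F.obj Y) := Functor.grpObjObj
  constructor
  · simp only [Functor.obj.η_def, Category.assoc]
    rw [← h₂, Functor.map_comp]
  · simp only [Functor.obj.μ_def, Category.assoc]
    rw [← Functor.map_comp, h₁, Functor.map_comp, Functor.LaxMonoidal.μ_natural_assoc]

end Functor

variable {I : Type u} [SmallCategory I] [IsCofiltered I] (D : I ⥤ Scheme.{u}) (c : Cone D)
  (hc : IsLimit c) [∀ {i j} (a : i ⟶ j), IsAffineHom (D.map a)]
  [∀ i, CompactSpace (D.obj i)] [∀ i, QuasiSeparatedSpace (D.obj i)]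

/-- Finite presentation properties of products over a stage. -/
theorem props_tensor {i : I} (X Y : Over (D.obj i)) [LocallyOfFinitePresentation X.hom] [CompactSpace X.left]
    [QuasiSeparatedSpace X.left] [LocallyOfFinitePresentation Y.hom] [CompactSpace Y.left]
    [QuasiSeparatedSpace Y.left] :
    LocallyOfFinitePresentation (X ⊗ Y).hom ∧ CompactSpace (X ⊗ Y).left ∧ QuasiSeparatedSpace (X ⊗ Y).left := by
  haveI : QuasiCompact Y.hom := inferInstance
  haveI : QuasiSeparated Y.hom := inferInstance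
  refine ⟨?_, QuasiCompact.compactSpace_of_compactSpace (pullback.fst X.hom Y.hom),
    quasiSeparatedSpace_of_quasiSeparated (pullback.fst X.hom Y.hom)⟩
  show LocallyOfFinitePresentation (pullback.fst X.hom Y.hom ≫ X.hom)
  infer_instance

/-- Finite presentation properties of base changes to a later stage. -/
theorem props_bc {i k : I} (g : k ⟶ i) (X : Over (D.obj i)) [LocallyOfFinitePresentation X.hom]
    [CompactSpace X.left] [QuasiSeparatedSpace X.left] :
    LocallyOfFinitePresentation (Red.bc (D.map g) X).hom ∧ CompactSpace (Red.bc (D.map g) X).left ∧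
      QuasiSeparatedSpace (Red.bc (D.map g) X).left := by
  refine ⟨?_, QuasiCompact.compactSpace_of_compactSpace (pullback.fst X.hom (D.map g)),
    quasiSeparatedSpace_of_quasiSeparated (pullback.fst X.hom (D.map g))⟩
  show LocallyOfFinitePresentation (pullback.snd X.hom (D.map g))
  infer_instance

/-- Two eventual upward closed properties hold together. -/
theorem exists_and {l : I} {P Q : ∀ k : I, (k ⟶ l) → Prop}
    (hP : ∀ {k k' : I} (g : k ⟶ l) (h : k' ⟶ k), P k g → P k' (h ≫ g))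
    (hQ : ∀ {k k' : I} (g : k ⟶ l) (h : k' ⟶ k), Q k g → Q k' (h ≫ g))
    (h₁ : ∃ k g, P k g) (h₂ : ∃ k g, Q k g) : ∃ (k : I) (g : k ⟶ l), P k g ∧ Q k g := by
  obtain ⟨k₁, g₁, p⟩ := h₁
  obtain ⟨k₂, g₂, q⟩ := h₂
  obtain ⟨k, a, b, e⟩ := IsCofiltered.cospan g₁ g₂
  exact ⟨k, a ≫ g₁, hP g₁ a p, e ▸ hQ g₂ b q⟩

theorem map_eq_of_le {l : I} {X Y : Over (D.obj l)} (a b : X ⟶ Y) {k k' : I} (g : k ⟶ l) (h : k' ⟶ k)
    (e : (Over.pullback (D.map g)).map a = (Over.pullback (D.map g)).map b) :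
    (Over.pullback (D.map (h ≫ g))).map a = (Over.pullback (D.map (h ≫ g))).map b :=
  map_eq_of_fac (D.map g) (D.map (h ≫ g)) (D.map h) (D.map_comp h g).symm a b e

include hc in
/-- Two pairs of morphisms that agree over the limit agree at a common later stage. -/
theorem exists_map_eq_two {l : I} {X Y X' Y' : Over (D.obj l)} [LocallyOfFiniteType Y.hom] [CompactSpace X.left]
    [LocallyOfFiniteType Y'.hom] [CompactSpace X'.left] (a b : X ⟶ Y) (a' b' : X' ⟶ Y')
    (e : (Over.pullback (c.π.app l)).map a = (Over.pullback (c.π.app l)).map b)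
    (e' : (Over.pullback (c.π.app l)).map a' = (Over.pullback (c.π.app l)).map b') :
    ∃ (k : I) (g : k ⟶ l), (Over.pullback (D.map g)).map a = (Over.pullback (D.map g)).map b ∧
      (Over.pullback (D.map g)).map a' = (Over.pullback (D.map g)).map b' :=
  exists_and (fun g h => map_eq_of_le D a b g h) (fun g h => map_eq_of_le D a' b' g h)
    (exists_map_eq D c hc a b e) (exists_map_eq D c hc a' b' e')

include hc in
/-- Homomorphisms over the limit come from a stage. -/
theorem exists_monHom_rep {i : I} {X Y : Over (D.obj i)} [GrpObj X] [GrpObj Y]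
    [LocallyOfFinitePresentation X.hom] [LocallyOfFinitePresentation Y.hom] [CompactSpace X.left]
    [QuasiSeparatedSpace X.left] [CompactSpace Y.left] [QuasiSeparatedSpace Y.left]
    (m : Red.bc (c.π.app i) X ⟶ Red.bc (c.π.app i) Y) [IsMonHom m] :
    ∃ (k : I) (g : k ⟶ i) (mk : Red.bc (D.map g) X ⟶ Red.bc (D.map g) Y), IsMonHom mk ∧ Rep D c m g mk := by
  obtain ⟨k, g, mk, hk⟩ := exists_rep D c hc m
  obtain ⟨_, _, _⟩ := props_bc D g X
  obtain ⟨_, _, _⟩ := props_bc D g Y
  obtain ⟨_, _, _⟩ := props_tensor D (Red.bc (D.map g) X) (Red.bc (D.map g) X)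
  haveI : CompactSpace (𝟙_ (Over (D.obj k))).left := inferInstanceAs (CompactSpace (D.obj k))
  have hmap : IsMonHom ((Over.pullback (c.π.app k)).map mk) := by
    have e : (Over.pullback (c.π.app k)).map mk =
        (ActBC.bcCompIso (c.π.app k) (D.map g) X (c.w g)).hom ≫ m ≫
          (ActBC.bcCompIso (c.π.app k) (D.map g) Y (c.w g)).inv := by
      rw [← Category.assoc, ← hk, Category.assoc, Iso.hom_inv_id, Category.comp_id]
    rw [e]
    infer_instance
  obtain ⟨h₁, h₂⟩ := map_mul_eq (Over.pullback (c.π.app k)) mk hmap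
  obtain ⟨l, g', e₁, e₂⟩ := exists_map_eq_two D c hc _ _ _ _ h₁ h₂
  haveI := isMonHom_map_of_eq (Over.pullback (D.map g')) mk e₁ e₂
  exact ⟨l, g' ≫ g, _, inferInstance, hk.refine' D c g' (g' ≫ g) rfl⟩

include hc in
/-- Group schemes of finite presentation over the limit come from a stage. -/
theorem exists_grp_stage (G : Over c.pt) [GrpObj G] [LocallyOfFinitePresentation G.hom] [CompactSpace G.left]
    [QuasiSeparatedSpace G.left] :
    ∃ (j : I) (Gj : Over (D.obj j)) (_ : GrpObj Gj) (e : G ≅ Red.bc (c.π.app j) Gj), IsMonHom e.hom ∧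
      LocallyOfFinitePresentation Gj.hom ∧ CompactSpace Gj.left ∧ QuasiSeparatedSpace Gj.left := by
  obtain ⟨i, G₀, g₀, q, hq⟩ := FPModelLib.Gen.exists_model D c hc G.hom
  let X : Over (D.obj i) := Over.mk g₀
  haveI : LocallyOfFinitePresentation X.hom := hq.lfp
  haveI : CompactSpace X.left := hq.compact
  haveI : QuasiSeparatedSpace X.left := hq.qs
  let e₀ : G ≅ Red.bc (c.π.app i) X := Over.isoMk hq.isPullback.isoPullback (hq.isPullback.isoPullback_hom_snd)
  letI : GrpObj (Red.bc (c.π.app i) X) := GrpObj.ofIso e₀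
  haveI he₀ : IsMonHom e₀.hom := by
    constructor <;> simp [GrpObj.ofIso, MonObj.ofIso]
  obtain ⟨_, _, _⟩ := props_tensor D X X
  haveI : CompactSpace (𝟙_ (Over (D.obj i))).left := inferInstanceAs (CompactSpace (D.obj i))
  haveI : QuasiSeparatedSpace (𝟙_ (Over (D.obj i))).left := inferInstanceAs (QuasiSeparatedSpace (D.obj i))
  haveI : LocallyOfFinitePresentation (𝟙_ (Over (D.obj i))).hom :=
    inferInstanceAs (LocallyOfFinitePresentation (𝟙 (D.obj i)))
  -- the three operations at a common stage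
  let mM : Red.bc (c.π.app i) (X ⊗ X) ⟶ Red.bc (c.π.app i) X :=
    inv (Functor.LaxMonoidal.μ (Over.pullback (c.π.app i)) X X) ≫ μ[Red.bc (c.π.app i) X]
  let eM : Red.bc (c.π.app i) (𝟙_ (Over (D.obj i))) ⟶ Red.bc (c.π.app i) X :=
    inv (Functor.LaxMonoidal.ε (Over.pullback (c.π.app i))) ≫ η[Red.bc (c.π.app i) X]
  let nM : Red.bc (c.π.app i) X ⟶ Red.bc (c.π.app i) X := GrpObj.inv
  obtain ⟨l, g, ⟨mMl, hmM⟩, ⟨eMl, heM⟩, ⟨nMl, hnM⟩⟩ :
      ∃ (l : I) (g : l ⟶ i), (∃ w, Rep D c mM g w) ∧ (∃ w, Rep D c eM g w) ∧ (∃ w, Rep D c nM g w) := by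
    refine exists_and (fun g h p => exists_rep_of_le D c p h)
      (fun g h p => ⟨exists_rep_of_le D c p.1 h, exists_rep_of_le D c p.2 h⟩) ?_
      (exists_and (fun g h p => exists_rep_of_le D c p h) (fun g h p => exists_rep_of_le D c p h) ?_ ?_)
    · exact exists_rep D c hc mM
    · exact exists_rep D c hc eM
    · exact exists_rep D c hc nM
  let Xl := Red.bc (D.map g) X
  let C₁ : Red.bc (c.π.app l) Xl ≅ Red.bc (c.π.app i) X := ActBC.bcCompIso (c.π.app l) (D.map g) X (c.w g)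
  let ml : Xl ⊗ Xl ⟶ Xl := Functor.LaxMonoidal.μ (Over.pullback (D.map g)) X X ≫ mMl
  let el : 𝟙_ (Over (D.obj l)) ⟶ Xl := Functor.LaxMonoidal.ε (Over.pullback (D.map g)) ≫ eMl
  have A : Functor.LaxMonoidal.μ (Over.pullback (c.π.app l)) Xl Xl ≫ (Over.pullback (c.π.app l)).map ml ≫ C₁.hom =
      (C₁.hom ⊗ₘ C₁.hom) ≫ μ[Red.bc (c.π.app i) X] := by
    simp only [ml, Functor.map_comp, Category.assoc, C₁]
    rw [hmM, reassoc_of% (bcCompIso_tensor (c.π.app l) (D.map g) (c.w g) X X)]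
    simp [mM]
  have B : Functor.LaxMonoidal.ε (Over.pullback (c.π.app l)) ≫ (Over.pullback (c.π.app l)).map el ≫ C₁.hom =
      η[Red.bc (c.π.app i) X] := by
    simp only [el, Functor.map_comp, Category.assoc, C₁]
    rw [heM, reassoc_of% (bcCompIso_unit (c.π.app l) (D.map g) (c.w g))]
    simp [eM]
  -- the axioms hold over the limit
  have key : ∀ {Z : Over (D.obj l)} (a b : Z ⟶ Xl), (Over.pullback (c.π.app l)).map (lift a b ≫ ml) ≫ C₁.hom =
      ((Over.pullback (c.π.app l)).map a ≫ C₁.hom) * ((Over.pullback (c.π.app l)).map b ≫ C₁.hom) := by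
    intro Z a b
    rw [map_lift_comp, Category.assoc, Category.assoc, A, lift_map_assoc]
    rfl
  have key₁ : ∀ {Z : Over (D.obj l)}, (Over.pullback (c.π.app l)).map (toUnit Z ≫ el) ≫ C₁.hom = 1 := by
    intro Z
    rw [map_toUnit_comp, Category.assoc, Category.assoc, B]
    rfl
  have keyi : (Over.pullback (c.π.app l)).map nMl ≫ C₁.hom =
      ((Over.pullback (c.π.app l)).map (𝟙 Xl) ≫ C₁.hom)⁻¹ := by
    rw [CategoryTheory.Functor.map_id]
    erw [Category.id_comp]
    exact hnM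
  obtain ⟨_, _, _⟩ := props_bc D g X
  obtain ⟨_, _, _⟩ := props_tensor D Xl Xl
  obtain ⟨_, _, _⟩ := props_tensor D (Xl ⊗ Xl) Xl
  have inj : ∀ {Z : Over (D.obj l)} (a b : Z ⟶ Xl),
      (Over.pullback (c.π.app l)).map a ≫ C₁.hom = (Over.pullback (c.π.app l)).map b ≫ C₁.hom →
      (Over.pullback (c.π.app l)).map a = (Over.pullback (c.π.app l)).map b := fun a b h => (cancel_mono C₁.hom).1 h
  obtain ⟨k, g', ⟨e₁, e₂⟩, e₃, e₄, e₅⟩ : ∃ (k : I) (g' : k ⟶ l),
      ((Over.pullback (D.map g')).map (lift (toUnit Xl ≫ el) (𝟙 Xl) ≫ ml) = (Over.pullback (D.map g')).map (𝟙 Xl) ∧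
      (Over.pullback (D.map g')).map (lift (𝟙 Xl) (toUnit Xl ≫ el) ≫ ml) = (Over.pullback (D.map g')).map (𝟙 Xl)) ∧
      (Over.pullback (D.map g')).map (lift (lift (fst (Xl ⊗ Xl) Xl ≫ fst Xl Xl) (fst _ _ ≫ snd Xl Xl) ≫ ml) (snd _ _) ≫ ml) =
        (Over.pullback (D.map g')).map (lift (fst (Xl ⊗ Xl) Xl ≫ fst Xl Xl) (lift (fst _ _ ≫ snd Xl Xl) (snd _ _) ≫ ml) ≫ ml) ∧
      (Over.pullback (D.map g')).map (lift nMl (𝟙 Xl) ≫ ml) = (Over.pullback (D.map g')).map (toUnit Xl ≫ el) ∧
      (Over.pullback (D.map g')).map (lift (𝟙 Xl) nMl ≫ ml) = (Over.pullback (D.map g')).map (toUnit Xl ≫ el) := by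
    refine exists_and (fun g h p => ⟨map_eq_of_le D _ _ g h p.1, map_eq_of_le D _ _ g h p.2⟩)
      (fun g h p => ⟨map_eq_of_le D _ _ g h p.1, map_eq_of_le D _ _ g h p.2.1, map_eq_of_le D _ _ g h p.2.2⟩)
      (exists_map_eq_two D c hc _ _ _ _ (inj _ _ ?_) (inj _ _ ?_))
      (exists_and (fun g h => map_eq_of_le D _ _ g h)
        (fun g h p => ⟨map_eq_of_le D _ _ g h p.1, map_eq_of_le D _ _ g h p.2⟩)
        (exists_map_eq D c hc _ _ (inj _ _ ?_))
        (exists_map_eq_two D c hc _ _ _ _ (inj _ _ ?_) (inj _ _ ?_)))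
    · rw [key, key₁, _root_.one_mul]
    · rw [key, key₁, _root_.mul_one]
    · rw [key, key, key, key, _root_.mul_assoc]
    · rw [key, key₁, keyi, inv_mul_cancel]
    · rw [key, key₁, keyi, mul_inv_cancel]
  let Gk : Over (D.obj k) := Red.bc (D.map g') Xl
  letI : GrpObj Gk := grpObjOfLift (liftAxioms_map (Over.pullback (D.map g')) ml el nMl e₁ e₂ e₃ e₄ e₅)
  let C₂ : Red.bc (c.π.app k) Gk ≅ Red.bc (c.π.app l) Xl := ActBC.bcCompIso (c.π.app k) (D.map g') Xl (c.w g')
  let e : G ≅ Red.bc (c.π.app k) Gk := e₀ ≪≫ C₁.symm ≪≫ C₂.symm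
  obtain ⟨a₁, a₂, a₃⟩ := props_bc D g' Xl
  refine ⟨k, Gk, inferInstance, e, ?_, a₁, a₂, a₃⟩
  haveI : IsMonHom (C₂.hom ≫ C₁.hom) := by
    constructor
    · show (Functor.LaxMonoidal.ε (Over.pullback (c.π.app k)) ≫ (Over.pullback (c.π.app k)).map
        (Functor.LaxMonoidal.ε (Over.pullback (D.map g')) ≫ (Over.pullback (D.map g')).map el)) ≫ C₂.hom ≫ C₁.hom = _
      simp only [Functor.map_comp, Category.assoc, C₂, ActBC.bcCompIso_hom_naturality_assoc]
      rw [reassoc_of% (bcCompIso_unit (c.π.app k) (D.map g') (c.w g')), B]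
    · show (Functor.LaxMonoidal.μ (Over.pullback (c.π.app k)) Gk Gk ≫ (Over.pullback (c.π.app k)).map
        (Functor.LaxMonoidal.μ (Over.pullback (D.map g')) Xl Xl ≫ (Over.pullback (D.map g')).map ml)) ≫
          C₂.hom ≫ C₁.hom = _
      simp only [Functor.map_comp, Category.assoc, C₂, ActBC.bcCompIso_hom_naturality_assoc]
      rw [reassoc_of% (bcCompIso_tensor (c.π.app k) (D.map g') (c.w g') Xl Xl), A, tensorHom_comp_tensorHom_assoc]
  let C₁₂ : Red.bc (c.π.app k) Gk ≅ Red.bc (c.π.app i) X := C₂ ≪≫ C₁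
  haveI : IsMonHom C₁₂.hom := ‹IsMonHom (C₂.hom ≫ C₁.hom)›
  have : e.hom = e₀.hom ≫ C₁₂.inv := by simp [e, C₁₂]
  rw [this]
  infer_instance

end Groth.Agent.FPGrp

end
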