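import Groth.Agent.FPModelLib.Model2
import Groth.Prelude.Def_ActBC

/-!
# Morphisms over a limit of schemes come from a stage, in the category over each stage
-/

set_option autoImplicit false
set_option backward.isDefEq.respectTransparency false
set_option backward.isDefEq.respectTransparency.types false
set_option linter.style.haveILetI false
set_option linter.unusedSectionVars false

universe u

open CategoryTheory CategoryTheory.Limits MonoidalCategory CartesianMonoidalCategory MonObj AlgebraicGeometry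

noncomputable section

namespace Groth.Agent.FPGrp

/-- Equal pullbacks stay equal after further pullback. -/
theorem map_eq_of_fac {S S' S'' : Scheme.{u}} (f : S' ⟶ S) (f' : S'' ⟶ S) (h : S'' ⟶ S') (hf : h ≫ f = f')
    {X Y : Over S} (a b : X ⟶ Y) (e : (Over.pullback f).map a = (Over.pullback f).map b) :
    (Over.pullback f').map a = (Over.pullback f').map b := by
  ext
  apply pullback.hom_ext
  · rw [ActBC.pullback_map_left_fst, ActBC.pullback_map_left_fst]
    have e' := congrArg (fun w => pullback.lift (pullback.fst X.hom f') (pullback.snd X.hom f' ≫ h)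
      (by rw [Category.assoc, hf, pullback.condition]) ≫ w.left ≫ pullback.fst Y.hom f) e
    simpa only [ActBC.pullback_map_left_fst, pullback.lift_fst_assoc] using e'
  · exact (Over.w _).trans (Over.w _).symm

/-- Iterated base change is compatible with the monoidal structures. -/
theorem bcCompIso_tensor {S S' S'' : Scheme.{u}} (f : S'' ⟶ S') (g : S' ⟶ S) {d : S'' ⟶ S} (h : f ≫ g = d)
    (X Y : Over S) :
    Functor.LaxMonoidal.μ (Over.pullback f) _ _ ≫ (Over.pullback f).map (Functor.LaxMonoidal.μ (Over.pullback g) X Y) ≫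
        (ActBC.bcCompIso f g (X ⊗ Y) h).hom =
      ((ActBC.bcCompIso f g X h).hom ⊗ₘ (ActBC.bcCompIso f g Y h).hom) ≫ Functor.LaxMonoidal.μ (Over.pullback d) X Y := by
  haveI : IsIso (Functor.LaxMonoidal.μ (Over.pullback d) X Y) := inferInstance
  rw [← cancel_mono (inv (Functor.LaxMonoidal.μ (Over.pullback d) X Y))]
  simp only [Category.assoc, IsIso.hom_inv_id, Category.comp_id]
  apply CartesianMonoidalCategory.hom_ext
  · rw [tensorHom_fst]
    simp only [Category.assoc]
    have e : inv (Functor.LaxMonoidal.μ (Over.pullback d) X Y) ≫ fst _ _ = (Over.pullback d).map (fst X Y) := by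
      rw [IsIso.inv_comp_eq, Functor.Monoidal.μ_fst]
    rw [e, ← ActBC.bcCompIso_hom_naturality, ← Functor.map_comp_assoc, Functor.Monoidal.μ_fst,
      Functor.Monoidal.μ_fst_assoc]
  · rw [tensorHom_snd]
    simp only [Category.assoc]
    have e : inv (Functor.LaxMonoidal.μ (Over.pullback d) X Y) ≫ snd _ _ = (Over.pullback d).map (snd X Y) := by
      rw [IsIso.inv_comp_eq, Functor.Monoidal.μ_snd]
    rw [e, ← ActBC.bcCompIso_hom_naturality, ← Functor.map_comp_assoc, Functor.Monoidal.μ_snd,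
      Functor.Monoidal.μ_snd_assoc]

/-- Iterated base change is compatible with the units. -/
theorem bcCompIso_unit {S S' S'' : Scheme.{u}} (f : S'' ⟶ S') (g : S' ⟶ S) {d : S'' ⟶ S} (h : f ≫ g = d) :
    Functor.LaxMonoidal.ε (Over.pullback f) ≫ (Over.pullback f).map (Functor.LaxMonoidal.ε (Over.pullback g)) ≫
        (ActBC.bcCompIso f g (𝟙_ (Over S)) h).hom = Functor.LaxMonoidal.ε (Over.pullback d) := by
  haveI : IsIso (Functor.LaxMonoidal.ε (Over.pullback d)) := inferInstance
  rw [← cancel_mono (inv (Functor.LaxMonoidal.ε (Over.pullback d)))]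
  exact toUnit_unique _ _

/-- Coherence of iterated base change. -/
theorem bcCompIso_assoc {S S₁ S₂ S₃ : Scheme.{u}} (a : S₃ ⟶ S₂) (b : S₂ ⟶ S₁) (c : S₁ ⟶ S)
    {ab : S₃ ⟶ S₁} (hab : a ≫ b = ab) {bc : S₂ ⟶ S} (hbc : b ≫ c = bc) {d : S₃ ⟶ S} (h₁ : a ≫ bc = d)
    (h₂ : ab ≫ c = d) (X : Over S) :
    (Over.pullback a).map (ActBC.bcCompIso b c X hbc).hom ≫ (ActBC.bcCompIso a bc X h₁).hom =
      (ActBC.bcCompIso a b (Red.bc c X) hab).hom ≫ (ActBC.bcCompIso ab c X h₂).hom := by
  ext
  apply pullback.hom_ext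
  · simp only [Over.comp_left, Category.assoc, ActBC.bcCompIso_hom_left_fst,
      ActBC.pullback_map_left_fst_assoc, ActBC.bcCompIso_hom_left_fst_assoc]
  · exact (Over.w _).trans (Over.w _).symm

/-- Conjugating a representative by iterated base change. -/
theorem conj_rep {S S₁ S₂ S₃ : Scheme.{u}} (a : S₃ ⟶ S₂) (b : S₂ ⟶ S₁) (c : S₁ ⟶ S)
    {ab : S₃ ⟶ S₁} (hab : a ≫ b = ab) {bc : S₂ ⟶ S} (hbc : b ≫ c = bc) {d : S₃ ⟶ S} (h₁ : a ≫ bc = d)
    (h₂ : ab ≫ c = d) {X Y : Over S} (mk : Red.bc c X ⟶ Red.bc c Y) (m : Red.bc d X ⟶ Red.bc d Y)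
    (h : (Over.pullback ab).map mk ≫ (ActBC.bcCompIso ab c Y h₂).hom = (ActBC.bcCompIso ab c X h₂).hom ≫ m) :
    (Over.pullback a).map ((ActBC.bcCompIso b c X hbc).inv ≫ (Over.pullback b).map mk ≫
        (ActBC.bcCompIso b c Y hbc).hom) ≫ (ActBC.bcCompIso a bc Y h₁).hom =
      (ActBC.bcCompIso a bc X h₁).hom ≫ m := by
  simp only [Functor.map_comp, Category.assoc]
  rw [bcCompIso_assoc a b c hab hbc h₁ h₂ Y, ActBC.bcCompIso_hom_naturality_assoc, h,
    ← Category.assoc (ActBC.bcCompIso a b _ hab).hom, ← bcCompIso_assoc a b c hab hbc h₁ h₂ X, Category.assoc,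
    ← Functor.map_comp_assoc, Iso.inv_hom_id, CategoryTheory.Functor.map_id, Category.id_comp]

variable {I : Type u} [SmallCategory I] [IsCofiltered I] (D : I ⥤ Scheme.{u}) (c : Cone D)
  (hc : IsLimit c) [∀ {i j} (a : i ⟶ j), IsAffineHom (D.map a)]
  [∀ i, CompactSpace (D.obj i)] [∀ i, QuasiSeparatedSpace (D.obj i)]

include hc in
/-- Morphisms at a stage that agree over the limit agree at a later stage. -/
theorem exists_map_eq {i : I} {X Y : Over (D.obj i)} [LocallyOfFiniteType Y.hom] [CompactSpace X.left]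
    (a b : X ⟶ Y) (e : (Over.pullback (c.π.app i)).map a = (Over.pullback (c.π.app i)).map b) :
    ∃ (k : I) (g : k ⟶ i), (Over.pullback (D.map g)).map a = (Over.pullback (D.map g)).map b := by
  obtain ⟨hcX⟩ := AffLim.nonempty_isLimit_baseChangeCone D c hc i X.hom
  let t : AffLim.baseChange D i X.hom ⟶ (Functor.const (Over i)).obj (D.obj i) :=
    { app := fun k => pullback.fst X.hom (D.map k.hom) ≫ X.hom
      naturality := fun k l φ => by simp [pullback.map] }
  let k₀ : Over i := Over.mk (𝟙 i)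
  have e' := congrArg (fun w => w.left ≫ pullback.fst Y.hom (c.π.app i)) e
  simp only [ActBC.pullback_map_left_fst] at e'
  obtain ⟨k, φ, hk⟩ := Scheme.exists_hom_comp_eq_comp_of_locallyOfFiniteType
    (AffLim.baseChange D i X.hom) t Y.hom (AffLim.baseChangeCone D c i X.hom) hcX (i := k₀)
    (pullback.fst X.hom (D.map k₀.hom) ≫ a.left) (pullback.fst X.hom (D.map k₀.hom) ≫ b.left)
    (by simp [t]) (by simp [t]) (by simpa [AffLim.baseChangeCone, pullback.map] using e')
  refine ⟨k.left, k.hom, ?_⟩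
  ext
  apply pullback.hom_ext
  · rw [ActBC.pullback_map_left_fst, ActBC.pullback_map_left_fst]
    simpa [pullback.map] using hk
  · exact (Over.w _).trans (Over.w _).symm

/-- `mk` at stage `k` induces `m` over the limit. -/
def Rep {i : I} {X Y : Over (D.obj i)} (m : Red.bc (c.π.app i) X ⟶ Red.bc (c.π.app i) Y) {k : I} (g : k ⟶ i)
    (mk : Red.bc (D.map g) X ⟶ Red.bc (D.map g) Y) : Prop :=
  (Over.pullback (c.π.app k)).map mk ≫ (ActBC.bcCompIso (c.π.app k) (D.map g) Y (c.w g)).hom =
    (ActBC.bcCompIso (c.π.app k) (D.map g) X (c.w g)).hom ≫ m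

/-- Pulling a representative back to a later stage. -/
theorem Rep.refine' {i : I} {X Y : Over (D.obj i)} {m : Red.bc (c.π.app i) X ⟶ Red.bc (c.π.app i) Y} {k : I}
    {g : k ⟶ i} {mk : Red.bc (D.map g) X ⟶ Red.bc (D.map g) Y} (h : Rep D c m g mk) {l : I} (g' : l ⟶ k)
    (g'' : l ⟶ i) (hg : g' ≫ g = g'') :
    Rep D c m g'' ((ActBC.bcCompIso (D.map g') (D.map g) X (by rw [← D.map_comp, hg])).inv ≫
      (Over.pullback (D.map g')).map mk ≫
      (ActBC.bcCompIso (D.map g') (D.map g) Y (by rw [← D.map_comp, hg])).hom) := by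
  have hab : c.π.app l ≫ D.map g' = c.π.app k := c.w g'
  have hbc : D.map g' ≫ D.map g = D.map g'' := by rw [← D.map_comp, hg]
  exact conj_rep (c.π.app l) (D.map g') (D.map g) hab hbc (c.w g'') (c.w g) mk m h

/-- Representatives propagate to later stages. -/
theorem exists_rep_of_le {i : I} {X Y : Over (D.obj i)} {m : Red.bc (c.π.app i) X ⟶ Red.bc (c.π.app i) Y} {k : I}
    {g : k ⟶ i} (h : ∃ mk, Rep D c m g mk) {l : I} (g' : l ⟶ k) : ∃ mk, Rep D c m (g' ≫ g) mk :=
  let ⟨_, hm⟩ := h
  ⟨_, hm.refine' D c g' _ rfl⟩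

include hc in
/-- Morphisms over the limit come from a stage. -/
theorem exists_rep {i : I} {X Y : Over (D.obj i)} [LocallyOfFinitePresentation X.hom]
    [LocallyOfFinitePresentation Y.hom] [CompactSpace X.left] [QuasiSeparatedSpace X.left]
    [CompactSpace Y.left] [QuasiSeparatedSpace Y.left]
    (m : Red.bc (c.π.app i) X ⟶ Red.bc (c.π.app i) Y) :
    ∃ (k : I) (g : k ⟶ i) (mk : Red.bc (D.map g) X ⟶ Red.bc (D.map g) Y), Rep D c m g mk := by
  have hX : FPModelLib.IsModel (pullback.snd X.hom (c.π.app i)) (c.π.app i) X.hom (pullback.fst X.hom (c.π.app i)) :=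
    ⟨inferInstance, inferInstance, inferInstance, IsPullback.of_hasPullback _ _⟩
  have hY : FPModelLib.IsModel (pullback.snd Y.hom (c.π.app i)) (c.π.app i) Y.hom (pullback.fst Y.hom (c.π.app i)) :=
    ⟨inferInstance, inferInstance, inferInstance, IsPullback.of_hasPullback _ _⟩
  obtain ⟨k, mk, h₁, h₂⟩ := FPModelLib.Gen.exists_hom_stage D c hc hX hY m.left (Over.w m)
  refine ⟨k.left, k.hom, Over.homMk mk h₁, ?_⟩
  have hv : (ActBC.bcCompIso (c.π.app k.left) (D.map k.hom) X (c.w k.hom)).hom.left ≫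
      FlatStage.vMap D c i X.hom hX.isPullback k = pullback.fst _ (c.π.app k.left) := by
    apply pullback.hom_ext
    · rw [Category.assoc, FlatStage.vMap_fst, ActBC.bcCompIso_hom_left_fst]
    · rw [Category.assoc, FlatStage.vMap_snd, ActBC.bcCompIso_hom_left_snd_assoc]
      exact (pullback.condition).symm
  show _ = _
  ext
  apply pullback.hom_ext
  · simp only [Over.comp_left, Category.assoc, ActBC.bcCompIso_hom_left_fst, ActBC.pullback_map_left_fst_assoc]
    show pullback.fst _ _ ≫ mk ≫ pullback.fst Y.hom (D.map k.hom) = _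
    rw [← hv, Category.assoc, reassoc_of% h₂, FlatStage.vMap_fst]
  · exact (Over.w _).trans (Over.w _).symm

end Groth.Agent.FPGrp

end
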